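import Groth.Agent.Lib.MonoEndo14.FiniteType
import Groth.Agent.Lib.GrpSchField.Pts
import Groth.Agent.S4810
import Groth.Agent.Lib.Birat.Basic
import Mathlib.AlgebraicGeometry.ZariskisMainTheorem

/-!
# Injective endomorphisms of schemes of finite type over `ℤ`, and of normal ones
-/

set_option autoImplicit false
set_option backward.isDefEq.respectTransparency false
universe u

open CategoryTheory Limits AlgebraicGeometry TopologicalSpace

noncomputable section

namespace GrothLib.RadEndo5

set_option maxHeartbeats 600000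

/-- In a Noetherian ring finitely many primes `p` satisfy `a ^ k - a ∈ p` for all `a`. -/
theorem finite_primes_frobenius {A : Type u} [CommRing A] [IsNoetherianRing A] (k : ℕ) (hk : 2 ≤ k) :
    {p : PrimeSpectrum A | ∀ a : A, a ^ k - a ∈ p.asIdeal}.Finite := by
  let I : Ideal A := Ideal.span (Set.range fun a : A => a ^ k - a)
  have hmem : ∀ p : PrimeSpectrum A, (∀ a : A, a ^ k - a ∈ p.asIdeal) ↔ I ≤ p.asIdeal := fun p => by
    rw [Ideal.span_le, Set.range_subset_iff]; rfl
  have hmax : ∀ p : Ideal A, p.IsPrime → I ≤ p → p.IsMaximal := by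
    intro p hp hI
    refine Ideal.isMaximal_iff.2 ⟨fun h1 => hp.ne_top ((Ideal.eq_top_iff_one p).2 h1), fun J x hpJ hxp hxJ => ?_⟩
    have h : x ^ k - x ∈ p := hI (Ideal.subset_span ⟨x, rfl⟩)
    obtain ⟨m, rfl⟩ := Nat.exists_eq_add_of_le hk
    have h' : x * (x ^ (1 + m) - 1) ∈ p := by
      have e : x * (x ^ (1 + m) - 1) = x ^ (2 + m) - x := by ring
      rw [e]; exact h
    have h'' := hpJ ((hp.mem_or_mem h').resolve_left hxp)
    have e : (1 : A) = x ^ (1 + m) - (x ^ (1 + m) - 1) := by ring
    rw [e]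
    exact J.sub_mem (J.pow_mem_of_mem hxJ (1 + m) (by omega)) h''
  have hfin : I.minimalPrimes.Finite := Ideal.finite_minimalPrimes_of_isNoetherianRing A I
  refine (hfin.preimage (f := PrimeSpectrum.asIdeal)
    (fun a _ b _ h => PrimeSpectrum.ext h)).subset fun p hp => ?_
  refine ⟨⟨p.isPrime, (hmem p).1 hp⟩, fun q hq hqp => ?_⟩
  exact ((hmax q hq.1 hq.2).eq_of_le p.isPrime.ne_top hqp).ge

/-- Finitely many points of a Noetherian scheme have residue field with `k` elements. -/
theorem finite_points_card {X : Scheme.{u}} [IsNoetherian X] (k : ℕ) (hk : 2 ≤ k) :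
    {x : X | Nat.card (X.residueField x) = k}.Finite := by
  let 𝒰 := X.affineCover.finiteSubcover
  haveI : Finite 𝒰.I₀ := inferInstanceAs (Finite { x // x ∈ _ })
  have hcov : ∀ x : X, ∃ i, x ∈ (𝒰.f i).opensRange := fun x => by
    obtain ⟨i, y, hy⟩ := 𝒰.exists_eq x
    exact ⟨i, y, hy⟩
  suffices h : ∀ i : 𝒰.I₀, {x : X | x ∈ (𝒰.f i).opensRange ∧ Nat.card (X.residueField x) = k}.Finite from
    (Set.finite_iUnion h).subset fun x hx => by
      obtain ⟨i, hi⟩ := hcov x
      exact Set.mem_iUnion.2 ⟨i, hi, hx⟩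
  intro i
  let U := (𝒰.f i).opensRange
  haveI : IsAffine (𝒰.X i) := inferInstanceAs (IsAffine (X.affineCover.X _))
  have hU : IsAffineOpen U := isAffineOpen_opensRange (𝒰.f i)
  haveI : IsNoetherianRing Γ(X, U) := IsLocallyNoetherian.component_noetherian ⟨U, hU⟩
  refine ((finite_primes_frobenius (A := Γ(X, U)) k hk).image hU.fromSpec).subset ?_
  rintro x ⟨hxU, hx⟩
  refine ⟨hU.primeIdealOf ⟨x, hxU⟩, fun a => ?_, hU.fromSpec_primeIdealOf ⟨x, hxU⟩⟩
  haveI : Finite (X.residueField x) := Nat.finite_of_card_ne_zero (by omega)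
  letI := Fintype.ofFinite (X.residueField x)
  have h0 : X.evaluation U x hxU (a ^ k - a) = 0 := by
    rw [map_sub, map_pow, ← hx, Nat.card_eq_fintype_card, FiniteField.pow_card, sub_self]
  rw [Scheme.evaluation_eq_zero_iff_notMem_basicOpen] at h0
  by_contra hne
  refine h0 ?_
  have h1 : hU.primeIdealOf ⟨x, hxU⟩ ∈ hU.fromSpec ⁻¹ᵁ X.basicOpen (a ^ k - a) := by
    rw [hU.fromSpec_preimage_basicOpen]; exact hne
  have h2 : hU.fromSpec (hU.primeIdealOf ⟨x, hxU⟩) ∈ X.basicOpen (a ^ k - a) := h1
  rwa [hU.fromSpec_primeIdealOf] at h2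

variable {X : Scheme.{u}}

/-- An injective endomorphism of a scheme of finite type over `ℤ` is surjective. -/
theorem surjective_of_injective [CompactSpace X]
    (v : X ⟶ Spec (CommRingCat.of (ULift.{u} ℤ))) [LocallyOfFiniteType v]
    (g : X ⟶ X) [LocallyOfFiniteType g] (hg : Function.Injective g) : Surjective g := by
  haveI : IsNoetherianRing (ULift.{u} ℤ) := isNoetherianRing_of_ringEquiv ℤ ULift.ringEquiv.symm
  haveI := GrothLib.Zeta.isJacobsonRing_int
  haveI : IsJacobsonRing (ULift.{u} ℤ) :=
    isJacobsonRing_of_surjective ⟨ULift.ringEquiv.symm.toRingHom, RingEquiv.surjective _⟩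
  haveI : IsLocallyNoetherian X := LocallyOfFiniteType.isLocallyNoetherian v
  haveI : IsNoetherian X := {}
  haveI : JacobsonSpace (Spec (CommRingCat.of (ULift.{u} ℤ))) :=
    inferInstanceAs (JacobsonSpace (PrimeSpectrum (ULift.{u} ℤ)))
  haveI : JacobsonSpace X := LocallyOfFiniteType.jacobsonSpace v
  haveI : QuasiCompact g := quasiCompact_of_compactSpace g
  refine GrothLib.GrpSchField.surjective_of_closedPoints g fun x hx => ?_
  haveI hxfin := MonoEndo14.finite_residueField v hx
  let q := Nat.card (X.residueField x)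
  let T := {y : X | IsClosed ({y} : Set X) ∧ Nat.card (X.residueField y) ≤ q}
  have hTfin : T.Finite := by
    refine ((Finset.range (q + 1)).finite_toSet.biUnion fun k _ =>
      (show {y : X | 2 ≤ k ∧ Nat.card (X.residueField y) = k}.Finite from ?_)).subset fun y hy => ?_
    · by_cases hk : 2 ≤ k
      · exact (finite_points_card k hk).subset fun y hy => hy.2
      · exact Set.finite_empty.subset fun y hy => hk hy.1
    · haveI := MonoEndo14.finite_residueField v hy.1
      exact Set.mem_biUnion (Finset.mem_range.2 (Nat.lt_succ_of_le hy.2))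
        ⟨Finite.one_lt_card, rfl⟩
  have hmaps : Set.MapsTo g T T := fun y hy => by
    haveI := MonoEndo14.finite_residueField v hy.1
    exact ⟨g.closePoints_subset_preimage_closedPoints hy.1,
      le_trans (Nat.card_le_card_of_injective _ (g.residueFieldMap y).hom.injective) hy.2⟩
  haveI : Finite T := hTfin.to_subtype
  obtain ⟨y, hy⟩ := Finite.surjective_of_injective (f := hmaps.restrict g T T)
    (hmaps.restrict_inj.2 hg.injOn) ⟨x, hx, le_rfl⟩
  exact ⟨y.1, congrArg Subtype.val hy⟩

/-- At a point with field stalk, a universally injective morphism has purely inseparable stalk map. -/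
theorem exists_pow_mem {X Y : Scheme.{u}} (f : X ⟶ Y) [UniversallyInjective f] (x : X)
    (hx : IsField (X.presheaf.stalk x)) (l : X.presheaf.stalk x) :
    ∃ (q : ℕ) (c : Y.presheaf.stalk (f x)), 0 < q ∧ f.stalkMap x c = l ^ q := by
  have hiff : UniversallyInjective f ↔
      Function.Injective f ∧ ∀ x, (f.residueFieldMap x).hom.IsPurelyInseparable :=
    (tfae_universallyInjective f).out 0 2
  have hp := (hiff.1 ‹UniversallyInjective f›).2 x
  letI := (f.residueFieldMap x).hom.toAlgebra
  haveI : IsPurelyInseparable (Y.residueField (f x)) (X.residueField x) := hp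
  obtain ⟨p, hexp⟩ := ExpChar.exists (Y.residueField (f x))
  obtain ⟨n, cbar, hc⟩ := IsPurelyInseparable.pow_mem (Y.residueField (f x)) p (X.residue x l)
  obtain ⟨c, rfl⟩ := Y.residue_surjective (f x) cbar
  refine ⟨p ^ n, c, pow_pos (expChar_pos (Y.residueField (f x)) p) n, ?_⟩
  letI := hx.toField
  refine (X.residue x).hom.injective ?_
  rw [map_pow]
  refine Eq.trans ?_ hc
  show (f.stalkMap x ≫ X.residue x) c = _
  rw [← Scheme.residue_residueFieldMap]
  rfl

theorem isFractionRing_at {Y : Scheme.{u}} [IsIntegral Y] {V : Y.Opens} (hV : IsAffineOpen V) [Nonempty V]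
    {y : Y} (hy : y = genericPoint Y) (hyV : y ∈ V) :
    letI := TopCat.Presheaf.algebra_section_stalk Y.presheaf (⟨y, hyV⟩ : V)
    IsFractionRing Γ(Y, V) (Y.presheaf.stalk y) ∧ IsField (Y.presheaf.stalk y) := by
  subst hy
  exact ⟨functionField_isFractionRing_of_isAffineOpen Y V hV, Field.toIsField Y.functionField⟩

/-- Over a normal scheme the normalization in a radicial extension of the function field is injective. -/
theorem fromNormalization_injective {X Y : Scheme.{u}} [IsIntegral X] [IsIntegral Y]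
    (hY : ∀ y : Y, IsIntegrallyClosed (Y.presheaf.stalk y))
    (f : X ⟶ Y) [IsDominant f] [QuasiCompact f] [QuasiSeparated f]
    (hp : ∀ l : X.presheaf.stalk (genericPoint X), ∃ (q : ℕ) (c : Y.presheaf.stalk (f (genericPoint X))),
      0 < q ∧ f.stalkMap (genericPoint X) c = l ^ q) :
    Function.Injective f.fromNormalization := by
  have hgenY : f (genericPoint X) = genericPoint Y := by
    refine ((genericPoint_spec X).image f.continuous).eq ?_
    rw [Set.image_univ, f.denseRange.closure_range]
    exact genericPoint_spec Y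
  intro z₁ z₂ hz
  obtain ⟨V, hV, hzV, -⟩ := exists_isAffineOpen_mem_and_subset (U := (⊤ : Y.Opens))
    (x := f.fromNormalization z₁) trivial
  haveI : Nonempty V := ⟨⟨_, hzV⟩⟩
  let W := f.fromNormalization ⁻¹ᵁ V
  have hW : IsAffineOpen W := hV.preimage _
  have hz1 : z₁ ∈ W := hzV
  have hz2 : z₂ ∈ W := by
    show f.fromNormalization z₂ ∈ V
    rw [← hz]; exact hzV
  haveI : Nonempty W := ⟨⟨_, hz1⟩⟩
  have hgen := Groth.Agent.S4810.toNormalization_generic f
  have hηW : f.toNormalization (genericPoint X) ∈ W := by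
    rw [hgen]
    exact ((genericPoint_spec f.normalization).mem_open_set_iff W.isOpen).mpr ⟨z₁, trivial, hz1⟩
  have hηV : f (genericPoint X) ∈ V := by
    have h : f.fromNormalization (f.toNormalization (genericPoint X)) ∈ V := hηW
    rwa [← Scheme.Hom.comp_apply, f.toNormalization_fromNormalization] at h
  haveI := NormalExt.isIntegrallyClosed_Γ hY V hV
  obtain ⟨hfrW, hfieldW⟩ := isFractionRing_at hW hgen hηW
  obtain ⟨hfrV, hfieldV⟩ := isFractionRing_at hV hgenY hηV
  let θ : Γ(f.normalization, W) →+* X.presheaf.stalk (genericPoint X) :=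
    (f.normalization.presheaf.germ W _ hηW ≫ f.toNormalization.stalkMap (genericPoint X)).hom
  have hθinj : Function.Injective θ := by
    letI := hfieldW.toField
    exact (f.toNormalization.stalkMap (genericPoint X)).hom.injective.comp
      (germ_injective_of_isIntegral f.normalization _ hηW)
  have hle : f ⁻¹ᵁ V ≤ f.toNormalization ⁻¹ᵁ W :=
    le_of_eq (by simp only [W, ← Scheme.Hom.comp_preimage, f.toNormalization_fromNormalization])
  have hηfV : genericPoint X ∈ f ⁻¹ᵁ V := hηV
  have hcomp : θ.comp (f.fromNormalization.app V).hom =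
      (f.stalkMap (genericPoint X)).hom.comp (Y.presheaf.germ V _ hηV).hom := by
    refine RingHom.ext fun r => ?_
    show f.toNormalization.stalkMap _ (f.normalization.presheaf.germ W _ hηW (f.fromNormalization.app V r)) = _
    rw [Scheme.Hom.germ_stalkMap_apply]
    show _ = f.stalkMap _ (Y.presheaf.germ V _ hηV r)
    rw [Scheme.Hom.germ_stalkMap_apply]
    rw [← TopCat.Presheaf.germ_res_apply X.presheaf (homOfLE hle) _ hηfV]
    refine congrArg (X.presheaf.germ (f ⁻¹ᵁ V) _ hηfV) ?_
    have h1 : f.fromNormalization.app V ≫ f.toNormalization.appLE W (f ⁻¹ᵁ V) hle =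
        f.app V := by
      rw [Scheme.Hom.app_eq_appLE, Scheme.Hom.appLE_comp_appLE]
      simp only [f.toNormalization_fromNormalization]
      rw [Scheme.Hom.app_eq_appLE]
    exact congrArg (fun e => e.hom r) h1
  have hkey : ∀ b : Γ(f.normalization, W), ∃ (q : ℕ) (a : Γ(Y, V)),
      0 < q ∧ f.fromNormalization.app V a = b ^ q := by
    intro b
    obtain ⟨q, c, hq, hc⟩ := hp (θ b)
    letI : Algebra Γ(Y, V) (Y.presheaf.stalk (f (genericPoint X))) :=
      TopCat.Presheaf.algebra_section_stalk Y.presheaf (⟨_, hηV⟩ : V)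
    haveI : IsFractionRing Γ(Y, V) (Y.presheaf.stalk (f (genericPoint X))) := hfrV
    letI := hfieldV.toField
    obtain ⟨P, hP, hP0⟩ := f.fromNormalization.isIntegral_app V hV (b ^ q)
    have hc' : IsIntegral Γ(Y, V) c := by
      refine ⟨P, hP, (f.stalkMap (genericPoint X)).hom.injective ?_⟩
      rw [map_zero, Polynomial.hom_eval₂, hc, ← map_pow]
      show P.eval₂ ((f.stalkMap (genericPoint X)).hom.comp (Y.presheaf.germ V _ hηV).hom) (θ (b ^ q)) = 0
      rw [← hcomp, ← Polynomial.hom_eval₂, hP0, map_zero]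
    obtain ⟨a, rfl⟩ := IsIntegrallyClosed.isIntegral_iff.mp hc'
    refine ⟨q, a, hq, hθinj ?_⟩
    rw [map_pow, ← hc]
    exact congrArg (fun e : Γ(Y, V) →+* _ => e a) hcomp
  have hcomap : ∀ (z : f.normalization) (hz : z ∈ W), (hW.primeIdealOf ⟨z, hz⟩).asIdeal.comap
      (f.fromNormalization.app V).hom = (hV.primeIdealOf ⟨f.fromNormalization z, hz⟩).asIdeal := by
    intro z hz
    have h := IsAffineOpen.comap_primeIdealOf_appLE (f := f.fromNormalization) V hV W hW le_rfl hz
    rw [← Scheme.Hom.app_eq_appLE] at h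
    exact congrArg PrimeSpectrum.asIdeal h
  have hmem : ∀ (z : f.normalization) (hz : z ∈ W) (b : Γ(f.normalization, W)) (q : ℕ) (a : Γ(Y, V)),
      0 < q → f.fromNormalization.app V a = b ^ q →
      (b ∈ (hW.primeIdealOf ⟨z, hz⟩).asIdeal ↔ a ∈ (hV.primeIdealOf ⟨f.fromNormalization z, hz⟩).asIdeal) := by
    intro z hz b q a hq ha
    rw [← hcomap z hz, Ideal.mem_comap, ha]
    exact ((hW.primeIdealOf ⟨z, hz⟩).isPrime.pow_mem_iff_mem q hq).symm
  have hP : hW.primeIdealOf ⟨z₁, hz1⟩ = hW.primeIdealOf ⟨z₂, hz2⟩ := by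
    refine PrimeSpectrum.ext (Ideal.ext fun b => ?_)
    obtain ⟨q, a, hq, ha⟩ := hkey b
    rw [hmem z₁ hz1 b q a hq ha, hmem z₂ hz2 b q a hq ha]
    simp [hz]
  have h1 := congrArg (fun p => hW.fromSpec p) hP
  simp only [IsAffineOpen.fromSpec_primeIdealOf] at h1
  exact h1

/-- An endomorphism of a normal integral scheme of finite type over `ℤ` which is quasi-finite, separated,
dominant and radicial at the generic point is finite. -/
theorem isFinite_of_normal [IsIntegral X] [CompactSpace X]
    (v : X ⟶ Spec (CommRingCat.of (ULift.{u} ℤ))) [LocallyOfFiniteType v]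
    (hN : ∀ x : X, IsIntegrallyClosed (X.presheaf.stalk x))
    (f : X ⟶ X) [IsDominant f] [LocallyOfFiniteType f] [LocallyQuasiFinite f] [IsSeparated f] [QuasiCompact f]
    (hp : ∀ l : X.presheaf.stalk (genericPoint X), ∃ (q : ℕ) (c : X.presheaf.stalk (f (genericPoint X))),
      0 < q ∧ f.stalkMap (genericPoint X) c = l ^ q) : IsFinite f := by
  haveI : IsOpenImmersion f.toNormalization := (Groth.Agent.S4810.result hN f).2.mpr ‹_›
  have hinj := fromNormalization_injective hN f hp
  have hfinj : Function.Injective f := fun a b h => by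
    refine f.toNormalization.isOpenEmbedding.injective (hinj ?_)
    rw [← Scheme.Hom.comp_apply, ← Scheme.Hom.comp_apply, f.toNormalization_fromNormalization]
    exact h
  haveI := surjective_of_injective v f hfinj
  haveI : Surjective f.toNormalization := ⟨fun z => by
    obtain ⟨a, ha⟩ := f.surjective (f.fromNormalization z)
    refine ⟨a, hinj ?_⟩
    rw [← Scheme.Hom.comp_apply, f.toNormalization_fromNormalization, ha]⟩
  haveI : IsIso f.toNormalization :=
    (isIso_iff_isOpenImmersion_and_surjective _).mpr ⟨inferInstance, inferInstance⟩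
  refine (IsFinite.iff_isIntegralHom_and_locallyOfFiniteType _).mpr ⟨?_, inferInstance⟩
  rw [← f.toNormalization_fromNormalization]
  infer_instance

end GrothLib.RadEndo5
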