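import Groth.Agent.Lib.RadEndo5.Core
import Groth.Agent.Lib.NormFac9.Basic
import Groth.Agent.Lib.NormFib.Birational
import Groth.Agent.Lib.NormFib.Cokernel
import Groth.Agent.Lib.Euler.AmpleComponents
import Groth.Agent.Lib.AlgSp.FibreFactor
import Groth.Agent.Lib.SGA1Quot21.SigmaFinite
import Groth.Agent.Lib.SchEffective.Radicial
import Groth.Agent.S0566
import Groth.Agent.S2656

/-!
# Radicial endomorphisms of schemes of finite type over `ℤ` are finite and surjective
-/

set_option autoImplicit false
set_option backward.isDefEq.respectTransparency false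
set_option linter.style.haveILetI false
universe u

open CategoryTheory Limits AlgebraicGeometry TopologicalSpace

noncomputable section

namespace GrothLib.RadEndo5

set_option maxHeartbeats 600000

instance universallyInjective_comp {A B C : Scheme.{u}} (a : A ⟶ B) (b : B ⟶ C) [UniversallyInjective a]
    [UniversallyInjective b] : UniversallyInjective (a ≫ b) :=
  MorphismProperty.comp_mem _ a b ‹_› ‹_›

theorem universallyInjective_of_comp {A B C : Scheme.{u}} (a : A ⟶ B) (b : B ⟶ C)
    [UniversallyInjective (a ≫ b)] : UniversallyInjective a := by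
  have h1 : UniversallyInjective (a ≫ b) ↔ ∀ (K : Type u) [Field K],
      Function.Injective (fun g : Spec (CommRingCat.of K) ⟶ A ↦ g ≫ a ≫ b) :=
    (tfae_universallyInjective (a ≫ b)).out 0 1
  have h2 : UniversallyInjective a ↔ ∀ (K : Type u) [Field K],
      Function.Injective (fun g : Spec (CommRingCat.of K) ⟶ A ↦ g ≫ a) :=
    (tfae_universallyInjective a).out 0 1
  refine h2.2 fun K _ x y hxy => h1.1 inferInstance K ?_
  simp only at hxy ⊢
  rw [← Category.assoc, hxy, Category.assoc]

theorem isNagata_uliftInt : CAlg.IsNagata (ULift.{u} ℤ) := by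
  haveI : IsDomain (ULift.{u} ℤ) := ULift.ringEquiv.toMulEquiv.isDomain
  haveI : IsPrincipalIdealRing (ULift.{u} ℤ) :=
    IsPrincipalIdealRing.of_surjective (ULift.ringEquiv.symm : ℤ ≃+* ULift.{u} ℤ).toRingHom
      (RingEquiv.surjective _)
  haveI : CharZero (ULift.{u} ℤ) := charZero_of_injective_ringHom
    (f := (ULift.ringEquiv.symm : ℤ ≃+* ULift.{u} ℤ).toRingHom) (RingEquiv.injective _)
  exact Groth.Agent.S2656.result (ULift.{u} ℤ)

theorem isNagata_of_finiteType {X : Scheme.{u}}
    (v : X ⟶ Spec (CommRingCat.of (ULift.{u} ℤ))) [LocallyOfFiniteType v]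
    (U : X.affineOpens) : CAlg.IsNagata Γ(X, U.1) := by
  let ψ := Spec.preimage (U.2.fromSpec ≫ v)
  have hψ : ψ.hom.FiniteType := by
    rw [← HasRingHomProperty.Spec_iff (P := @LocallyOfFiniteType), Spec.map_preimage]
    infer_instance
  letI : Algebra (ULift.{u} ℤ) Γ(X, U.1) := ψ.hom.toAlgebra
  haveI : Algebra.FiniteType (ULift.{u} ℤ) Γ(X, U.1) := hψ
  exact Groth.Agent.S0566.result _ isNagata_uliftInt _

/-- A dominant radicial endomorphism of an integral scheme of finite type over `ℤ` becomes finite on
the normalization: there is a finite surjective `ν` with `ν ≫ f` finite. -/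
theorem exists_cover_of_integral {Z : Scheme.{u}} [IsIntegral Z] [CompactSpace Z]
    (v : Z ⟶ Spec (CommRingCat.of (ULift.{u} ℤ))) [LocallyOfFiniteType v]
    (f : Z ⟶ Z) [LocallyOfFiniteType f] [UniversallyInjective f] [IsDominant f] :
    ∃ (N : Scheme.{u}) (ν : N ⟶ Z), Surjective ν ∧ IsFinite (ν ≫ f) := by
  haveI : IsNoetherianRing (ULift.{u} ℤ) := isNoetherianRing_of_ringEquiv ℤ ULift.ringEquiv.symm
  haveI : IsLocallyNoetherian Z := LocallyOfFiniteType.isLocallyNoetherian v
  haveI : IsNoetherian Z := {}
  haveI : IsNoetherian (Spec (Z.presheaf.stalk (genericPoint Z))) := by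
    haveI : IsNoetherianRing (Z.presheaf.stalk (genericPoint Z)) := inferInstanceAs (IsNoetherianRing Z.functionField)
    infer_instance
  haveI : QuasiCompact (Z.fromSpecStalk (genericPoint Z)) := inferInstance
  haveI : QuasiSeparated (Z.fromSpecStalk (genericPoint Z)) := inferInstance
  let N := Curv2.normalization Z
  let ν : N ⟶ Z := Curv2.normalizationι Z
  haveI hνfin : IsFinite ν := NormFib.isFinite_of_nagata fun U => isNagata_of_finiteType v U
  have hNn : Pi1.IsNormalScheme N := NormFib.isNormalScheme_normalization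
  have hνgen : ν (genericPoint N) = genericPoint Z := NormFib.map_genericPoint
  haveI : IsDominant ν := by
    refine ⟨?_⟩
    rw [denseRange_iff_closure_range, Set.eq_univ_iff_forall]
    intro z
    exact closure_mono (Set.singleton_subset_iff.2 (show genericPoint Z ∈ Set.range ν from ⟨genericPoint N, hνgen⟩))
      ((genericPoint_spec Z).specializes (Set.mem_univ z)).mem_closure
  haveI : Surjective ν := ⟨Set.range_eq_univ.1 (by
    rw [← ν.isClosedMap.isClosed_range.closure_eq]; exact ν.denseRange.closure_range)⟩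
  haveI : CompactSpace N := QuasiCompact.compactSpace_of_compactSpace ν
  haveI : IsSeparated f := SchEffective.isSeparated_of_radicial f
  haveI : QuasiCompact f := quasiCompact_of_compactSpace f
  haveI : LocallyQuasiFinite f := inferInstance
  have hdom : ∀ w : N, closure {w} ∈ irreducibleComponents N → (ν ≫ f) w = genericPoint Z := by
    intro w hw
    rw [irreducibleComponents_eq_singleton, Set.mem_singleton_iff] at hw
    have hwg : w = genericPoint N := by
      refine IsGenericPoint.eq (show IsGenericPoint w Set.univ from hw) (genericPoint_spec N)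
    subst hwg
    refine ((genericPoint_spec N).image (ν ≫ f).continuous).eq ?_
    rw [Set.image_univ, (ν ≫ f).denseRange.closure_range]
    exact genericPoint_spec Z
  obtain ⟨φ, hφ, -⟩ := NormFac9.existsUnique_fac (ν ≫ f) hNn hdom
  have hφ' : φ ≫ ν = ν ≫ f := hφ
  haveI : LocallyQuasiFinite φ := by
    haveI : LocallyQuasiFinite (φ ≫ ν) := by rw [hφ']; infer_instance
    exact LocallyQuasiFinite.of_comp φ ν
  haveI : LocallyOfFiniteType φ := by
    haveI : LocallyOfFiniteType (φ ≫ ν) := by rw [hφ']; infer_instance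
    exact locallyOfFiniteType_of_comp φ ν
  haveI : IsSeparated φ := by
    haveI : IsSeparated (φ ≫ ν) := by rw [hφ']; infer_instance
    exact IsSeparated.of_comp φ ν
  haveI : QuasiCompact φ := by
    haveI : IsLocallyNoetherian N := LocallyOfFiniteType.isLocallyNoetherian ν
    exact quasiCompact_of_compactSpace φ
  haveI : IsDominant φ := by
    have h1 : ν (φ (genericPoint N)) = genericPoint Z := by
      rw [← Scheme.Hom.comp_apply, hφ']
      exact hdom _ (by
        rw [irreducibleComponents_eq_singleton, Set.mem_singleton_iff]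
        exact genericPoint_spec N)
    obtain ⟨V, hVne, hViso⟩ := NormFib.exists_isIso_of_finite (X := Z) hνfin
    have hηV : genericPoint Z ∈ V := ((genericPoint_spec Z).mem_open_set_iff V.isOpen).mpr
      (by simpa using hVne)
    haveI := hViso
    have h2 : φ (genericPoint N) = genericPoint N := by
      have ha : φ (genericPoint N) ∈ ν ⁻¹ᵁ V := by
        show ν _ ∈ V
        rw [h1]; exact hηV
      have hb : genericPoint N ∈ ν ⁻¹ᵁ V := by
        show ν _ ∈ V
        rw [hνgen]; exact hηV
      have := (ν ∣_ V).homeomorph.injective (a₁ := ⟨_, ha⟩) (a₂ := ⟨_, hb⟩) (by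
        apply Subtype.ext
        show ((ν ∣_ V) ⟨_, ha⟩).1 = ((ν ∣_ V) ⟨_, hb⟩).1
        rw [morphismRestrict_base_coe, morphismRestrict_base_coe]
        exact h1.trans hνgen.symm)
      exact congrArg Subtype.val this
    refine ⟨?_⟩
    rw [denseRange_iff_closure_range, Set.eq_univ_iff_forall]
    intro z
    exact closure_mono (Set.singleton_subset_iff.2 (show genericPoint N ∈ Set.range φ from ⟨genericPoint N, h2⟩))
      ((genericPoint_spec N).specializes (Set.mem_univ z)).mem_closure
  obtain ⟨V, hVne, hViso⟩ := NormFib.exists_isIso_of_finite (X := Z) hνfin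
  haveI := hViso
  let W : N.Opens := ν ⁻¹ᵁ V
  have hηW : genericPoint N ∈ W := by
    show ν _ ∈ V
    rw [hνgen]
    exact ((genericPoint_spec Z).mem_open_set_iff V.isOpen).mpr (by simpa using hVne)
  haveI : UniversallyInjective (W.ι ≫ φ) := by
    haveI : Mono ((ν ∣_ V) ≫ V.ι) := inferInstance
    haveI : UniversallyInjective ((ν ∣_ V) ≫ V.ι ≫ f) := inferInstance
    haveI : UniversallyInjective ((W.ι ≫ φ) ≫ ν) := by
      rw [Category.assoc, hφ', ← morphismRestrict_ι_assoc]
      infer_instance
    exact universallyInjective_of_comp (W.ι ≫ φ) ν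
  have hp : ∀ l : N.presheaf.stalk (genericPoint N), ∃ (q : ℕ) (c : N.presheaf.stalk (φ (genericPoint N))),
      0 < q ∧ φ.stalkMap (genericPoint N) c = l ^ q := by
    have hfield : IsField (N.presheaf.stalk (W.ι (⟨genericPoint N, hηW⟩ : W))) :=
      Field.toIsField N.functionField
    intro l
    have hwfield : IsField ((W : Scheme.{u}).presheaf.stalk (⟨genericPoint N, hηW⟩ : W)) :=
      (asIso (W.ι.stalkMap (⟨genericPoint N, hηW⟩ : W))).commRingCatIsoToRingEquiv.symm.toMulEquiv.isField hfield
    obtain ⟨q, c, hq, hc⟩ := exists_pow_mem (W.ι ≫ φ) ⟨genericPoint N, hηW⟩ hwfield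
      (W.ι.stalkMap ⟨genericPoint N, hηW⟩ l)
    refine ⟨q, c, hq, ?_⟩
    rw [Scheme.Hom.stalkMap_comp, ← map_pow] at hc
    exact (asIso (W.ι.stalkMap (⟨genericPoint N, hηW⟩ : W))).commRingCatIsoToRingEquiv.injective hc
  haveI : IsFinite φ := isFinite_of_normal (ν ≫ v) (fun x => (hNn x).2) φ hp
  exact ⟨N, ν, inferInstance, by rw [← hφ']; infer_instance⟩

/-- Iterates of an endomorphism. -/
def iter {X : Scheme.{u}} (g : X ⟶ X) : ℕ → (X ⟶ X)
  | 0 => 𝟙 X
  | n + 1 => iter g n ≫ g

/-- A radicial endomorphism of a scheme of finite type over `ℤ` is finite and surjective. -/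
theorem surjective_and_isFinite {X : Scheme.{u}} [CompactSpace X]
    (v : X ⟶ Spec (CommRingCat.of (ULift.{u} ℤ))) [LocallyOfFiniteType v]
    (g : X ⟶ X) [LocallyOfFiniteType g] [UniversallyInjective g] : Surjective g ∧ IsFinite g := by
  haveI : IsNoetherianRing (ULift.{u} ℤ) := isNoetherianRing_of_ringEquiv ℤ ULift.ringEquiv.symm
  haveI : IsLocallyNoetherian X := LocallyOfFiniteType.isLocallyNoetherian v
  haveI : IsNoetherian X := {}
  haveI : QuasiCompact g := quasiCompact_of_compactSpace g
  haveI hgs : Surjective g := surjective_of_injective v g g.injective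
  refine ⟨hgs, ?_⟩
  have hsurj : ∀ n, Surjective (iter g n) := fun n => by
    induction n with
    | zero => exact inferInstanceAs (Surjective (𝟙 X))
    | succ n ih => haveI := ih; exact inferInstanceAs (Surjective (iter g n ≫ g))
  have hui : ∀ n, UniversallyInjective (iter g n) := fun n => by
    induction n with
    | zero => exact inferInstanceAs (UniversallyInjective (𝟙 X))
    | succ n ih => haveI := ih; exact inferInstanceAs (UniversallyInjective (iter g n ≫ g))
  have hlft : ∀ n, LocallyOfFiniteType (iter g n) := fun n => by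
    induction n with
    | zero => exact inferInstanceAs (LocallyOfFiniteType (𝟙 X))
    | succ n ih => haveI := ih; exact inferInstanceAs (LocallyOfFiniteType (iter g n ≫ g))
  -- the endomorphism permutes the components
  let C := irreducibleComponents X
  have hC : C.Finite := NoetherianSpace.finite_irreducibleComponents
  let Φ : Set X → Set X := fun T => closure (g '' T)
  have hsub : C ⊆ Φ '' C := by
    intro T hT
    have hirr : ∀ D ∈ C, IsIrreducible (closure (g '' D)) := fun D hD =>
      (hD.1.image g g.continuous.continuousOn).closure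
    have hcov : T ⊆ ⋃₀ (Φ '' C) := fun x _ => by
      obtain ⟨a, rfl⟩ := g.surjective x
      exact ⟨_, ⟨irreducibleComponent a, irreducibleComponent_mem_irreducibleComponents a, rfl⟩,
        subset_closure ⟨a, mem_irreducibleComponent, rfl⟩⟩
    obtain ⟨z, hz, hTz⟩ := isIrreducible_iff_sUnion_isClosed.1 hT.1 (hC.image Φ).toFinset
      (fun z hz => by
        obtain ⟨D, -, rfl⟩ := (Set.Finite.mem_toFinset _).1 hz
        exact isClosed_closure) (by rwa [Set.Finite.coe_toFinset])
    obtain ⟨D, hD, rfl⟩ := (Set.Finite.mem_toFinset _).1 hz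
    exact ⟨D, hD, Set.Subset.antisymm (hT.2 (hirr D hD) hTz) hTz⟩
  have himg : Φ '' C = C :=
    (Set.eq_of_subset_of_ncard_le hsub (Set.ncard_image_le hC) (hC.image Φ)).symm
  have hmaps : Set.MapsTo Φ C C := fun T hT => himg ▸ ⟨T, hT, rfl⟩
  haveI : Finite C := hC.to_subtype
  let σ : C → C := hmaps.restrict Φ C C
  have hσ : Function.Bijective σ := by
    have h : Function.Surjective σ := fun T => by
      obtain ⟨D, hD, h⟩ := himg.ge T.2
      exact ⟨⟨D, hD⟩, Subtype.ext h⟩
    exact ⟨Finite.injective_iff_surjective.2 h, h⟩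
  let e : Equiv.Perm C := Equiv.ofBijective σ hσ
  obtain ⟨m, hm, hem⟩ := (isOfFinOrder_of_finite e).exists_pow_eq_one
  have hiter : ∀ n (T : C), closure (iter g n '' T.1) = ((e ^ n) T).1 := by
    intro n T
    induction n with
    | zero =>
      show closure ((𝟙 X : X ⟶ X) '' T.1) = T.1
      rw [show ((𝟙 X : X ⟶ X) '' T.1) = T.1 from by ext x; simp]
      exact (isClosed_of_mem_irreducibleComponents T.1 T.2).closure_eq
    | succ n ih =>
      rw [pow_succ', Equiv.Perm.mul_apply]
      show closure ((iter g n ≫ g) '' T.1) = closure (g '' ((e ^ n) T).1)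
      rw [← ih, show ((iter g n ≫ g) '' T.1) = g '' (iter g n '' T.1) from by
        rw [← Set.image_comp]; rfl, closure_image_closure g.continuous]
  let h := iter g m
  haveI : UniversallyInjective h := hui m
  haveI : LocallyOfFiniteType h := hlft m
  have hfix : ∀ T : C, closure (h '' T.1) = T.1 := fun T => by rw [hiter, hem]; rfl
  let Z : C → Scheme.{u} := fun T =>
    (Scheme.IdealSheafData.vanishingIdeal ⟨T.1, isClosed_of_mem_irreducibleComponents T.1 T.2⟩).subscheme
  let ι : ∀ T : C, Z T ⟶ X := fun T =>
    (Scheme.IdealSheafData.vanishingIdeal ⟨T.1, isClosed_of_mem_irreducibleComponents T.1 T.2⟩).subschemeι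
  have hrange : ∀ T, Set.range (ι T) = T.1 := fun T =>
    (Scheme.IdealSheafData.range_subschemeι _).trans (Scheme.IdealSheafData.coe_support_vanishingIdeal _)
  have hcov : ∀ T : C, ∃ (N : Scheme.{u}) (a : N ⟶ X), Set.range a = T.1 ∧ IsFinite (a ≫ h) := by
    intro T
    haveI : IsIntegral (Z T) := Euler.isIntegral_vanishingIdeal _ T.2.1
    haveI : IsClosedImmersion (ι T) := inferInstanceAs (IsClosedImmersion (Scheme.IdealSheafData.subschemeι _))
    haveI : CompactSpace (Z T) := QuasiCompact.compactSpace_of_compactSpace (ι T)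
    obtain ⟨f, hf⟩ := GrothLib.AlgSp.exists_lift_of_range_subset (ι T ≫ h) (ι T) (by
      rintro _ ⟨z, rfl⟩
      rw [hrange]
      rw [← hfix T]
      exact subset_closure ⟨ι T z, (hrange T).le ⟨z, rfl⟩, rfl⟩)
    haveI : UniversallyInjective (f ≫ ι T) := by rw [hf]; infer_instance
    haveI : UniversallyInjective f := universallyInjective_of_comp f (ι T)
    haveI : LocallyOfFiniteType (f ≫ ι T) := by rw [hf]; infer_instance
    haveI : LocallyOfFiniteType f := locallyOfFiniteType_of_comp f (ι T)
    haveI : IsDominant f := by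
      refine ⟨?_⟩
      rw [denseRange_iff_closure_range, (ι T).isClosedEmbedding.isInducing.closure_eq_preimage_closure_image,
        ← Set.range_comp, show (ι T ∘ f : Z T → X) = (f ≫ ι T : Z T ⟶ X) from rfl, hf]
      rw [show Set.range (ι T ≫ h) = h '' T.1 from by
        rw [← hrange T, ← Set.range_comp]; rfl, hfix T, ← hrange T, Set.preimage_range]
    obtain ⟨N, ν, hν, hfin⟩ := exists_cover_of_integral (ι T ≫ v) f
    refine ⟨N, ν ≫ ι T, ?_, ?_⟩
    · rw [show Set.range (ν ≫ ι T) = ι T '' Set.range ν from by rw [← Set.range_comp]; rfl,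
        Set.range_eq_univ.2 ν.surjective, Set.image_univ, hrange]
    · rw [Category.assoc, ← hf, ← Category.assoc]
      infer_instance
  choose N a ha hfin using hcov
  haveI : Surjective (Sigma.desc a) := ⟨fun x => by
    obtain ⟨y, hy⟩ : x ∈ Set.range (a ⟨_, irreducibleComponent_mem_irreducibleComponents x⟩) := by
      rw [ha]; exact mem_irreducibleComponent
    refine ⟨Sigma.ι N _ y, ?_⟩
    rw [← Scheme.Hom.comp_apply, Sigma.ι_desc]
    exact hy⟩
  haveI : UniversallyClosed (Sigma.desc a ≫ h) := by
    haveI := fun T => hfin T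
    haveI := GrothLib.SGA1Quot21.isFinite_sigmaDesc (fun T => a T ≫ h)
    rw [show Sigma.desc a ≫ h = Sigma.desc fun T => a T ≫ h from
      Sigma.hom_ext _ _ fun T => by rw [Sigma.ι_desc_assoc, Sigma.ι_desc]]
    infer_instance
  haveI : UniversallyClosed h := UniversallyClosed.of_comp_surjective (Sigma.desc a) h
  haveI : UniversallyClosed g := by
    obtain ⟨k, rfl⟩ : ∃ k, m = k + 1 := ⟨m - 1, by omega⟩
    haveI := hsurj k
    haveI : UniversallyClosed (iter g k ≫ g) := ‹UniversallyClosed h›
    exact UniversallyClosed.of_comp_surjective (iter g k) g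
  haveI : IsSeparated g := SchEffective.isSeparated_of_radicial g
  haveI : IsProper g := {}
  exact IsFinite.of_isProper_of_locallyQuasiFinite g

end GrothLib.RadEndo5
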