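import Groth.Agent.Lib.RadEndo5.FiniteType
import Groth.Agent.Lib.ConsLim.Models
import Groth.Agent.Lib.LimDesc.Inj
import Groth.Agent.Lib.MonoEndo14.Main

/-!
# Radicial endomorphisms of finitely presented schemes are bijective and finite
-/

set_option autoImplicit false
set_option backward.isDefEq.respectTransparency false
set_option linter.style.haveILetI false
universe u

open CategoryTheory Limits AlgebraicGeometry Opposite

noncomputable section

namespace GrothLib.RadEndo5

open GrothLib.LimDesc GrothLib.LimDescend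

set_option maxHeartbeats 600000

theorem surjective_and_isFinite_of_affine {A : Type u} [CommRing A] {X : Scheme.{u}}
    (f : X ⟶ Spec (CommRingCat.of A))
    [LocallyOfFinitePresentation f] [QuasiCompact f] [QuasiSeparated f]
    (g : X ⟶ X) (hg : g ≫ f = f) [UniversallyInjective g] : Surjective g ∧ IsFinite g := by
  obtain ⟨i, ⟨M⟩⟩ := exists_model (fgDiagram A) (fgCone A) (isLimitFgCone A) (X := X) f
  haveI := compactSpace_model (fgDiagram A) (fgCone A) M
  haveI := quasiSeparatedSpace_model (fgDiagram A) (fgCone A) M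
  obtain ⟨k, g₁, hg₁, hπ⟩ := exists_hom (fgDiagram A) M.hom M.hom M.isPullback M.isPullback
    (isLimitFgCone A) g hg
  let M' := M.map (fgDiagram A) (fgCone A) k.hom
  haveI := compactSpace_model (fgDiagram A) (fgCone A) M'
  haveI := quasiSeparatedSpace_model (fgDiagram A) (fgCone A) M'
  have hcone : (LimDesc.cone (fgDiagram A) (c := fgCone A) i M.hom M.isPullback).π.app k = M'.proj := by
    apply pullback.hom_ext
    · rw [π_fst]; exact (Model.map_proj_fst _ _ M k.hom).symm
    · rw [π_snd]; exact (pullback.lift_snd _ _ _).symm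
  have hcomp : g₁ ≫ M'.hom = M'.hom := hg₁
  have hX : IsPullback M'.proj g g₁ M'.proj := by
    refine IsPullback.of_bot ?_ ?_ M'.isPullback
    · rw [hg, hcomp]; exact M'.isPullback
    · rw [hcone] at hπ; exact hπ
  haveI : LocallyOfFiniteType g₁ := by
    haveI : LocallyOfFiniteType (g₁ ≫ M'.hom) := by rw [hcomp]; infer_instance
    exact locallyOfFiniteType_of_comp g₁ M'.hom
  obtain ⟨j, hj⟩ := exists_universallyInjective (fgDiagram A) (isLimitFgCone A) g₁ M'.hom M'.isPullback hX
  let N := (mapNat (fgDiagram A) k.left M'.hom (g₁ ≫ M'.hom) g₁ rfl).app j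
  let e : pullback M'.hom ((fgDiagram A).map j.hom) ≅
      pullback (g₁ ≫ M'.hom) ((fgDiagram A).map j.hom) := pullback.congrHom hcomp.symm rfl
  haveI : UniversallyInjective N := hj
  let g₂ : pullback M'.hom ((fgDiagram A).map j.hom) ⟶ pullback M'.hom ((fgDiagram A).map j.hom) := e.hom ≫ N
  haveI : Algebra.FiniteType ℤ j.left.unop.1 := (Subalgebra.fg_iff_finiteType _).mp j.left.unop.2
  let w : (fgDiagram A).obj j.left ⟶ Spec (CommRingCat.of (ULift.{u} ℤ)) :=
    Spec.map (CommRingCat.ofHom ((algebraMap ℤ j.left.unop.1).comp ULift.ringEquiv.toRingHom))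
  haveI : LocallyOfFiniteType w := by
    refine (HasRingHomProperty.Spec_iff (P := @LocallyOfFiniteType)).mpr ?_
    have h1 : (algebraMap ℤ ↥j.left.unop.1).FiniteType :=
      RingHom.finiteType_algebraMap.mpr ‹Algebra.FiniteType ℤ ↥j.left.unop.1›
    exact h1.comp (RingHom.FiniteType.of_surjective _ (RingEquiv.surjective _))
  let v := pullback.snd M'.hom ((fgDiagram A).map j.hom) ≫ w
  haveI : CompactSpace ↥(pullback M'.hom ((fgDiagram A).map j.hom)) :=
    QuasiCompact.compactSpace_of_compactSpace (pullback.snd M'.hom ((fgDiagram A).map j.hom))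
  haveI : LocallyOfFiniteType v := inferInstance
  haveI : LocallyOfFiniteType g₂ := by
    haveI : LocallyOfFiniteType (g₂ ≫ v) := by
      have : g₂ ≫ v = v := by
        simp only [g₂, v, N, Category.assoc]
        rw [mapNat_snd_assoc]
        simp [e, pullback.congrHom]
      rw [this]; infer_instance
    exact locallyOfFiniteType_of_comp g₂ v
  obtain ⟨h1, h2⟩ := surjective_and_isFinite v g₂
  have hN : N = e.inv ≫ g₂ := by simp [g₂]
  haveI := h1
  haveI := h2
  have hbc := isPullback_π (fgDiagram A) (c := fgCone A) k.left M'.hom (g₁ ≫ M'.hom) M'.isPullback g₁ rfl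
    (hX.paste_vert M'.isPullback) g hX.w.symm rfl j
  have hNs : Surjective N := by rw [hN]; infer_instance
  have hNf : IsFinite N := by rw [hN]; infer_instance
  exact ⟨MorphismProperty.of_isPullback (P := @Surjective) hbc hNs,
    MorphismProperty.of_isPullback (P := @IsFinite) hbc hNf⟩

/-- **A radicial endomorphism of a scheme of finite presentation is bijective and finite.** -/
theorem bijective_and_isFinite {X S : Scheme.{u}} (f : X ⟶ S)
    [LocallyOfFinitePresentation f] [QuasiCompact f] [QuasiSeparated f]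
    (g : X ⟶ X) (hg : g ≫ f = f) [UniversallyInjective g] :
    Function.Bijective g ∧ IsFinite g := by
  suffices h : (@Surjective ⊓ @IsFinite : MorphismProperty Scheme.{u}) g from
    ⟨⟨g.injective, h.1.1⟩, h.2⟩
  refine IsZariskiLocalAtTarget.of_iSup_eq_top
    (P := (@Surjective ⊓ @IsFinite : MorphismProperty Scheme.{u})) (fun U : S.affineOpens => f ⁻¹ᵁ U.1) ?_ fun U => ?_
  · rw [← Scheme.Hom.preimage_iSup, iSup_affineOpens_eq_top, Scheme.Hom.preimage_top]
  · have e : g ⁻¹ᵁ (f ⁻¹ᵁ U.1) = f ⁻¹ᵁ U.1 := by rw [← Scheme.Hom.comp_preimage, hg]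
    let g' := (X.isoOfEq e).inv ≫ g ∣_ (f ⁻¹ᵁ U.1)
    haveI : UniversallyInjective (g ∣_ (f ⁻¹ᵁ U.1)) :=
      MorphismProperty.of_isPullback (P := @UniversallyInjective)
        (isPullback_morphismRestrict g (f ⁻¹ᵁ U.1)).flip ‹UniversallyInjective g›
    haveI : UniversallyInjective g' := inferInstance
    haveI : IsAffine U.1.toScheme := U.2
    let f' := f ∣_ U.1 ≫ U.1.toScheme.isoSpec.hom
    haveI : LocallyOfFinitePresentation (f ∣_ U.1) :=
      MorphismProperty.of_isPullback (isPullback_morphismRestrict f U.1).flip ‹_›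
    haveI : QuasiCompact (f ∣_ U.1) :=
      MorphismProperty.of_isPullback (isPullback_morphismRestrict f U.1).flip ‹_›
    haveI : QuasiSeparated (f ∣_ U.1) :=
      MorphismProperty.of_isPullback (isPullback_morphismRestrict f U.1).flip ‹_›
    have hg' : g' ≫ f' = f' := by
      simp only [g', f', ← Category.assoc]
      congr 1
      rw [← cancel_mono U.1.ι]
      simp [hg]
    obtain ⟨h1, h2⟩ := surjective_and_isFinite_of_affine f' g' hg'
    have hres : g ∣_ (f ⁻¹ᵁ U.1) = (X.isoOfEq e).hom ≫ g' := by simp [g']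
    haveI := h1
    haveI := h2
    rw [hres]
    exact ⟨(inferInstance : Surjective ((X.isoOfEq e).hom ≫ g')), (inferInstance : IsFinite ((X.isoOfEq e).hom ≫ g'))⟩

end GrothLib.RadEndo5
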